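import Groth.Agent.HensSchFFLib.Main
import Groth.Agent.S0798
import Groth.Agent.QCohLib.AffineFinite

/-! Morphisms of coherent modules on a proper scheme and on its Henselization. -/

set_option autoImplicit false
set_option maxHeartbeats 1000000
set_option backward.isDefEq.respectTransparency false
set_option backward.isDefEq.respectTransparency.types false

universe u

open CategoryTheory CategoryTheory.Limits AlgebraicGeometry TopologicalSpace Opposite

noncomputable section

namespace HensSchFFLib

variable {X : Scheme.{u}} {A : Type u} [CommRing A] [X.Over (Spec (CommRingCat.of A))]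

theorem smulMod_comm {M N : X.Modules} (φ : M ⟶ N) (a : A) :
    Formal.smulMod A M a ≫ φ = φ ≫ Formal.smulMod A N a := by
  refine Scheme.Modules.hom_ext _ _ fun U => ConcreteCategory.hom_ext _ _ fun x => ?_
  exact QCohLib.app_smul φ U (FormalLib.rhoA A U a) x

theorem smulFamily_comp_eq_zero {M G : X.Modules} (I : Ideal A) (n : ℕ) (φ : M ⟶ Formal.modPow I n G) :
    Formal.smulFamily (I ^ n) M ≫ φ = 0 := by
  refine Sigma.hom_ext _ _ fun a => ?_
  rw [Formal.smulFamily, Sigma.ι_desc_assoc, comp_zero, smulMod_comm]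
  have h : Formal.smulMod A (Formal.modPow I n G) (a : A) = 0 := by
    haveI : Epi (Formal.modPowπ I n G) := inferInstanceAs (Epi (cokernel.π _))
    rw [← cancel_epi (Formal.modPowπ I n G), ← smulMod_comm, FormalLib.smulMod_modPowπ G I n a.2, comp_zero]
  rw [h, comp_zero]

theorem isProperOver_support [IsProper (X ↘ Spec (CommRingCat.of A))] {M : X.Modules} (hM : Coh.IsCoh M) :
    ClSub.IsProperOver (X ↘ Spec (CommRingCat.of A)) (CohB1.support M) := by
  refine ⟨QCohLib.isClosed_support M hM.2, ?_⟩
  infer_instance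

variable {Xh : LocallyRingedSpace.{u}} (ι : Xh ⟶ X.toLocallyRingedSpace) (I : Ideal A) [IsNoetherianRing A]
  (hh : HensSch.IsHenselizationAlong X ((X ↘ Spec (CommRingCat.of A)).base ⁻¹' PrimeSpectrum.zeroLocus (I : Set A)) Xh ι)
  [IsAdicComplete I A] [IsProper (X ↘ Spec (CommRingCat.of A))] [AlgebraicGeometry.IsNoetherian X]

/-- The unit of the inverse image. -/
abbrev eta (M : X.Modules) : M ⟶ (HensSch.pushMod ι).obj (hp ι M) := (HensSch.pullPushAdj ι).unit.app M

include hh in
omit [IsAdicComplete I A] [IsProper (X ↘ Spec (CommRingCat.of A))] in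
theorem isIso_eta_trunc (G : X.Modules) [Coh.IsQCoh G] (n : ℕ) : IsIso (eta ι (Formal.modPow I n G)) := by
  have h : IsIso ((Scheme.Modules.toPresheaf X).map (eta ι (Formal.modPow I n G))) := by
    refine (NatTrans.isIso_iff_isIso_app _).2 fun U => ?_
    exact (ConcreteCategory.isIso_iff_bijective _).2 (trunc_bijective' ι I hh G n U.unop)
  exact isIso_of_reflects_iso _ (Scheme.Modules.toPresheaf X)

include hh in
/-- Henselization is fully faithful on coherent modules. -/
theorem map_bijective (F G : X.Modules) (hF : Coh.IsCoh F) (hG : Coh.IsCoh G) :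
    Function.Bijective ((HensSch.pullMod ι).map : (F ⟶ G) → (hp ι F ⟶ hp ι G)) := by
  haveI : Coh.IsQCoh F := hF.1
  haveI : Coh.IsQCoh G := hG.1
  haveI := fun n => isIso_eta_trunc ι I hh G n
  let adj := HensSch.pullPushAdj ι
  let q := fun n => Formal.modPowπ I (n + 1) G
  have hη : ∀ {M N : X.Modules} (φ : M ⟶ N),
      φ ≫ eta ι N = eta ι M ≫ (HensSch.pushMod ι).map ((HensSch.pullMod ι).map φ) := fun φ => adj.unit.naturality φ
  rw [Function.bijective_iff_existsUnique]
  intro ψ
  let θ : ∀ n, F ⟶ Formal.modPow I (n + 1) G := fun n =>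
    eta ι F ≫ (HensSch.pushMod ι).map (ψ ≫ (HensSch.pullMod ι).map (q n)) ≫ inv (eta ι (Formal.modPow I (n + 1) G))
  have hiff : ∀ φ : F ⟶ G, (HensSch.pullMod ι).map φ = ψ ↔ ∀ n, φ ≫ q n = θ n := by
    intro φ
    have h1 : ∀ n, φ ≫ q n = θ n ↔
        eta ι F ≫ (HensSch.pushMod ι).map ((HensSch.pullMod ι).map φ ≫ (HensSch.pullMod ι).map (q n)) =
          eta ι F ≫ (HensSch.pushMod ι).map (ψ ≫ (HensSch.pullMod ι).map (q n)) := by
      intro n
      rw [← (HensSch.pullMod ι).map_comp, ← hη]
      show _ = eta ι F ≫ _ ≫ inv _ ↔ _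
      rw [← Category.assoc, IsIso.eq_comp_inv]
    simp only [h1]
    refine ⟨fun h n => by rw [h], fun h => ?_⟩
    apply (adj.homEquiv F (hp ι G)).injective
    rw [adj.homEquiv_unit, adj.homEquiv_unit]
    refine Scheme.Modules.hom_ext _ _ fun U => ConcreteCategory.hom_ext _ _ fun m => ?_
    refine sub_eq_zero.1 (eq_zero_of_trunc ι I hh G hG (U₀ := U) _ fun n => ?_)
    rw [map_sub, sub_eq_zero]
    have := congrArg (fun f : F ⟶ (HensSch.pushMod ι).obj (hp ι (Formal.modPow I (n + 1) G)) => f.app U m) (h n)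
    simp only [Functor.map_comp] at this
    exact this
  have hdesc : ∀ n, Formal.smulFamily (I ^ (n + 1)) F ≫ θ n = 0 := fun n => smulFamily_comp_eq_zero I (n + 1) (θ n)
  have hθ : ∀ n, θ (n + 1) ≫ Formal.modPowTrans I (n + 1) G = θ n := by
    intro n
    have e : q (n + 1) ≫ Formal.modPowTrans I (n + 1) G = q n := Formal.modPowπ_trans I (n + 1) G
    have e2 : inv (eta ι (Formal.modPow I (n + 1 + 1) G)) ≫ Formal.modPowTrans I (n + 1) G =
        (HensSch.pushMod ι).map ((HensSch.pullMod ι).map (Formal.modPowTrans I (n + 1) G)) ≫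
          inv (eta ι (Formal.modPow I (n + 1) G)) := by
      rw [IsIso.inv_comp_eq, ← Category.assoc, IsIso.eq_comp_inv]
      exact hη _
    simp only [θ, Category.assoc]
    rw [e2, ← Category.assoc ((HensSch.pushMod ι).map _) ((HensSch.pushMod ι).map _), ← Functor.map_comp,
      Category.assoc, ← Functor.map_comp, e]
  let Ψ : Formal.completion I F ⟶ Formal.completion I G :=
    NatTrans.ofOpSequence (fun n => cokernel.desc _ (θ n) (hdesc n)) fun n => by
      haveI : Epi (Formal.modPowπ I (n + 1 + 1) F) := inferInstanceAs (Epi (cokernel.π _))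
      simp only [Formal.completion, Functor.ofOpSequence_map_homOfLE_succ]
      rw [← cancel_epi (Formal.modPowπ I (n + 1 + 1) F)]
      rw [← Category.assoc, Formal.modPowπ_trans]
      show cokernel.π _ ≫ cokernel.desc _ (θ n) _ = cokernel.π _ ≫ cokernel.desc _ (θ (n + 1)) _ ≫ _
      rw [cokernel.π_desc, cokernel.π_desc_assoc]
      exact (hθ n).symm
  refine (existsUnique_congr fun φ => ?_).1 (Groth.Agent.S0798.result A I X F G hF hG (isProperOver_support hF)
    (isProperOver_support hG) Ψ)
  rw [hiff]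
  refine forall_congr' fun n => ?_
  show cokernel.π _ ≫ cokernel.desc _ (θ n) (hdesc n) = φ ≫ q n ↔ φ ≫ q n = θ n
  rw [cokernel.π_desc]
  exact eq_comm

end HensSchFFLib
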