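import Groth.Agent.HensSchFFLib.Algebra
import Groth.Agent.HensSchLib.Flat
import Groth.Agent.PairHensNoethLib.Completion

/-! Stalks of affine Henselian spectra of Noetherian pairs. -/

set_option autoImplicit false

universe u

open CategoryTheory TopologicalSpace Opposite AlgebraicGeometry

namespace HensSchFFLib

open HensSchLib

variable {A : Type u} [CommRing A] {K : Ideal A}

/-- Sections over a basic open are a pair Henselization of the localization. -/
theorem isPairHenselization_away {f : A} {B : Type u} [CommRing B] {φ : A →+* B}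
    (h : HensSch.IsHensAway A K f B φ) [Algebra (Localization.Away f) B]
    (hal : (algebraMap (Localization.Away f) B).comp (algebraMap A (Localization.Away f)) = φ) :
    Hens2.IsPairHenselization (Localization.Away f) (K.map (algebraMap A (Localization.Away f))) B := by
  obtain ⟨hu, hhens, huniv⟩ := h
  have hmap : (K.map (algebraMap A (Localization.Away f))).map (algebraMap (Localization.Away f) B) = K.map φ := by
    rw [Ideal.map_map, hal]
  refine ⟨hmap ▸ hhens, fun C _ J g hC hg => ?_⟩
  have hg' : K.map (g.comp (algebraMap A (Localization.Away f))) ≤ J := by rwa [← Ideal.map_map]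
  obtain ⟨k, hk, hkuniq⟩ := huniv C J _ hC hg' ((IsLocalization.Away.algebraMap_isUnit f).map g)
  refine ⟨k, IsLocalization.ringHom_ext (Submonoid.powers f) ?_, fun k' hk' => hkuniq k' ?_⟩
  · rw [RingHom.comp_assoc, hal]
    exact hk
  · rw [← hk', RingHom.comp_assoc, hal]

theorem res_secMap {X : LocallyRingedSpace.{u}} {π : X ⟶ HensSch.specLRS A} {g g' : A}
    (h : HensSch.dOpen π g' ≤ HensSch.dOpen π g) (a : A) :
    (X.presheaf.map (homOfLE h).op).hom (HensSch.secMap π (PrimeSpectrum.basicOpen g) a) =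
      HensSch.secMap π (PrimeSpectrum.basicOpen g') a := by
  simp only [HensSch.secMap, RingHom.comp_apply]
  rw [← CommRingCat.comp_apply, ← X.presheaf.map_comp]
  rfl

variable {X : LocallyRingedSpace.{u}} {π : X ⟶ HensSch.specLRS A}

/-- The stalk is covered by Noetherian rings with the same truncations. -/
theorem covered_stalk [IsNoetherianRing A] (hX : HensSch.IsSph A K X π) (x : X) (I' : Ideal A) (hI : I' ≤ K)
    {N : ℕ} (hN : K ^ N ≤ I')
    [alg : Algebra ((HensSch.specLRS A).presheaf.stalk (π.base x)) (X.presheaf.stalk x)]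
    (halg : algebraMap ((HensSch.specLRS A).presheaf.stalk (π.base x)) (X.presheaf.stalk x) = (π.stalkMap x).hom) :
    Covered ((HensSch.specLRS A).presheaf.stalk (π.base x)) (X.presheaf.stalk x)
      (I'.map (StructureSheaf.toStalk A (π.base x)).hom) := by
  classical
  letI algA : Algebra A ((HensSch.specLRS A).presheaf.stalk (π.base x)) :=
    (StructureSheaf.toStalk A (π.base x)).hom.toAlgebra
  haveI : IsLocalization.AtPrime ((HensSch.specLRS A).presheaf.stalk (π.base x)) (π.base x).asIdeal :=
    StructureSheaf.IsLocalization.to_stalk A (π.base x)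
  intro s
  choose f hxf _ t ht using fun b : s => exists_dOpen_germ_eq hX x b.1 ⊤ trivial
  have hxU : x ∈ Finset.univ.inf (fun b : s => HensSch.dOpen π (f b)) :=
    Finset.inf_induction (p := fun U : Opens X => x ∈ U) trivial (fun _ hU _ hV => ⟨hU, hV⟩) (fun b _ => hxf b)
  obtain ⟨g, hxg, hg⟩ := exists_dOpen_le hX _ x hxU
  let φ := HensSch.secMap π (PrimeSpectrum.basicOpen g)
  let G := (X.presheaf.germ (HensSch.dOpen π g) x hxg).hom
  have hG : ∀ a, G (φ a) = secStalk π x a := fun a => germ_secMap _ x hxg a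
  letI : Algebra (Localization.Away g) (X.presheaf.obj (op (HensSch.dOpen π g))) :=
    (IsLocalization.Away.lift g (hX.2.2 g).1).toAlgebra
  have hal : (algebraMap (Localization.Away g) (X.presheaf.obj (op (HensSch.dOpen π g)))).comp
      (algebraMap A (Localization.Away g)) = φ := IsLocalization.Away.lift_comp g (hX.2.2 g).1
  have hB := isPairHenselization_away (hX.2.2 g) hal
  haveI : IsNoetherianRing (Localization.Away g) :=
    IsLocalization.isNoetherianRing (Submonoid.powers g) _ inferInstance
  haveI : IsNoetherianRing (X.presheaf.obj (op (HensSch.dOpen π g))) :=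
    PairHensNoethLib.isNoetherianRing_henselization hB
  haveI : IsLocalRing (X.presheaf.stalk x) := X.isLocalRing x
  let q : Ideal (X.presheaf.obj (op (HensSch.dOpen π g))) := (IsLocalRing.maximalIdeal (X.presheaf.stalk x)).comap G
  haveI : q.IsPrime := Ideal.comap_isPrime _ _
  let B' := Localization.AtPrime q
  haveI : IsNoetherianRing B' := IsLocalization.isNoetherianRing q.primeCompl _ inferInstance
  let β := algebraMap (X.presheaf.obj (op (HensSch.dOpen π g))) B'
  have hGu : ∀ y : q.primeCompl, IsUnit (G y.1) := fun y => by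
    by_contra hc
    exact y.2 (show G y.1 ∈ IsLocalRing.maximalIdeal _ from hc)
  let θ₀ : B' →+* X.presheaf.stalk x := IsLocalization.lift hGu
  have hθ : ∀ b, θ₀ (β b) = G b := IsLocalization.lift_eq hGu
  haveI hloc : IsLocalHom θ₀ := ⟨fun b hb => by
    obtain ⟨c, d, rfl⟩ := IsLocalization.exists_mk'_eq q.primeCompl b
    refine (IsLocalization.AtPrime.isUnit_mk'_iff B' q c d).2 fun hc => ?_
    have h1 : θ₀ (IsLocalization.mk' B' c d) * θ₀ (β d.1) = G c := by
      rw [← map_mul, IsLocalization.mk'_spec, hθ]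
    exact (show G c ∈ IsLocalRing.maximalIdeal _ from hc) (h1 ▸ hb.mul (by rw [hθ]; exact hGu d))⟩
  haveI : IsLocalHom (π.stalkMap x).hom := LocallyRingedSpace.isLocalHomStalkMap π x
  haveI : IsLocalRing ((HensSch.specLRS A).presheaf.stalk (π.base x)) := (HensSch.specLRS A).isLocalRing _
  have hpu : ∀ y : (π.base x).asIdeal.primeCompl, IsUnit ((β.comp φ) y.1) := fun y => by
    refine isUnit_of_map_unit θ₀ _ ?_
    rw [RingHom.comp_apply, hθ, hG]
    exact (IsLocalization.map_units ((HensSch.specLRS A).presheaf.stalk (π.base x)) y).map (π.stalkMap x).hom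
  let ρ : (HensSch.specLRS A).presheaf.stalk (π.base x) →+* B' :=
    IsLocalization.lift (S := (HensSch.specLRS A).presheaf.stalk (π.base x)) hpu
  have hρ : ∀ a, ρ (algebraMap A _ a) = β (φ a) := fun a => IsLocalization.lift_eq hpu a
  letI : Algebra ((HensSch.specLRS A).presheaf.stalk (π.base x)) B' := ρ.toAlgebra
  have hθρ : θ₀.comp ρ = (π.stalkMap x).hom := by
    refine IsLocalization.ringHom_ext (π.base x).asIdeal.primeCompl (RingHom.ext fun a => ?_)
    simp only [RingHom.comp_apply, hρ, hθ, hG]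
    rfl
  let θ : B' →ₐ[(HensSch.specLRS A).presheaf.stalk (π.base x)] X.presheaf.stalk x :=
    { θ₀ with commutes' := fun r => by rw [halg, ← hθρ]; rfl }
  let J := I'.map (StructureSheaf.toStalk A (π.base x)).hom
  have hJmap : ∀ n, (J ^ n).map ρ = ((I' ^ n).map φ).map β := fun n => by
    rw [← Ideal.map_pow]
    refine (Ideal.map_map _ ρ).trans (Eq.trans ?_ (Ideal.map_map φ β).symm)
    congr 1
    exact RingHom.ext hρ
  have hKp : K ≤ (π.base x).asIdeal := by
    have : π.base x ∈ PrimeSpectrum.zeroLocus (K : Set A) := hX.2.1 ▸ Set.mem_range_self x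
    exact this
  refine ⟨B', inferInstance, inferInstance, θ, inferInstance, fun b hb => ?_, ?_, fun n b => ?_⟩
  · let b' : s := ⟨b, hb⟩
    refine ⟨β ((X.presheaf.map (homOfLE (hg.trans (Finset.inf_le (Finset.mem_univ b')))).op).hom (t b')), ?_⟩
    exact (hθ _).trans ((TopCat.Presheaf.germ_res_apply X.presheaf _ x hxg (t b')).trans (ht b'))
  · rw [IsLocalRing.jacobson_eq_maximalIdeal ⊥ bot_ne_top]
    have h1 := hJmap 1
    rw [pow_one, pow_one] at h1
    refine h1.trans_le (Ideal.map_le_iff_le_comap.2 ?_)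
    rw [Ideal.map_le_iff_le_comap]
    intro a ha hu
    have hu' : IsUnit (secStalk π x a) := by rw [← hG, ← hθ]; exact hu.map θ₀
    have hu'' : IsUnit (algebraMap A ((HensSch.specLRS A).presheaf.stalk (π.base x)) a) :=
      isUnit_of_map_unit (π.stalkMap x).hom _ hu'
    exact (IsLocalization.AtPrime.isUnit_to_map_iff _ (π.base x).asIdeal a).1 hu'' (hKp (hI ha))
  · show ∃ r, b - ρ r ∈ (J ^ n).map ρ
    rw [hJmap]
    have happ : ∀ c, ∃ r, β c - ρ r ∈ ((I' ^ n).map φ).map β := by
      intro c
      obtain ⟨z, hz⟩ := PairHensLib.exists_sub_mem_pow hB (N * n) c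
      obtain ⟨a, ⟨_, k, rfl⟩, rfl⟩ := IsLocalization.exists_mk'_eq (Submonoid.powers g) z
      have hgp : g ∈ (π.base x).asIdeal.primeCompl := hxg
      refine ⟨IsLocalization.mk' _ a (⟨g ^ k, pow_mem hgp k⟩ : (π.base x).asIdeal.primeCompl), ?_⟩
      have h2 : c - algebraMap (Localization.Away g) _ (IsLocalization.mk' _ a (⟨g ^ k, k, rfl⟩ : Submonoid.powers g)) ∈ (I' ^ n).map φ := by
        have h3 : ((K.map (algebraMap A (Localization.Away g))) ^ (N * n)).map
            (algebraMap (Localization.Away g) (X.presheaf.obj (op (HensSch.dOpen π g)))) ≤ (I' ^ n).map φ := by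
          rw [← Ideal.map_pow, Ideal.map_map, hal, pow_mul]
          exact Ideal.map_mono (Ideal.pow_right_mono hN n)
        exact h3 hz
      have h4 : ρ (IsLocalization.mk' _ a (⟨g ^ k, pow_mem hgp k⟩ : (π.base x).asIdeal.primeCompl)) =
          β (algebraMap (Localization.Away g) _ (IsLocalization.mk' _ a (⟨g ^ k, k, rfl⟩ : Submonoid.powers g))) := by
        refine (hpu ⟨g ^ k, pow_mem hgp k⟩).mul_right_cancel ?_
        have e1 : ρ (IsLocalization.mk' _ a (⟨g ^ k, pow_mem hgp k⟩ : (π.base x).asIdeal.primeCompl)) * (β.comp φ) (g ^ k) = β (φ a) := by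
          rw [RingHom.comp_apply, ← hρ, ← map_mul, IsLocalization.mk'_spec _ a (⟨g ^ k, pow_mem hgp k⟩ : (π.base x).asIdeal.primeCompl), ← hρ]
        have e2 : β (algebraMap (Localization.Away g) _ (IsLocalization.mk' _ a (⟨g ^ k, k, rfl⟩ : Submonoid.powers g))) * (β.comp φ) (g ^ k) = β (φ a) := by
          rw [RingHom.comp_apply, ← hal, RingHom.comp_apply, RingHom.comp_apply, ← map_mul, ← map_mul,
            IsLocalization.mk'_spec _ a (⟨g ^ k, k, rfl⟩ : Submonoid.powers g)]
        exact e1.trans e2.symm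
      rw [h4, ← map_sub]
      exact Ideal.mem_map_of_mem β h2
    obtain ⟨c, d, rfl⟩ := IsLocalization.exists_mk'_eq q.primeCompl b
    obtain ⟨r, hr⟩ := happ c
    obtain ⟨r', hr'⟩ := happ d.1
    have hd : IsUnit (β d.1) := IsLocalization.map_units B' d
    have hle : ((I' ^ n).map φ).map β ≤ IsLocalRing.maximalIdeal B' ∨ ((I' ^ n).map φ).map β = ⊤ := by
      rcases eq_or_ne (((I' ^ n).map φ).map β) ⊤ with h | h
      · exact Or.inr h
      · exact Or.inl (IsLocalRing.le_maximalIdeal h)
    rcases hle with hle | hle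
    · have hr'u : IsUnit r' := by
        refine isUnit_of_map_unit (π.stalkMap x).hom r' ?_
        rw [← hθρ, RingHom.comp_apply]
        refine IsUnit.map θ₀ ?_
        by_contra hc
        refine (IsLocalRing.maximalIdeal B').ne_top_iff_one.1 (IsLocalRing.maximalIdeal.isMaximal B').ne_top ?_
        have h5 : β d.1 ∈ IsLocalRing.maximalIdeal B' := by
          have := add_mem (hle hr') (show ρ r' ∈ IsLocalRing.maximalIdeal B' from hc)
          rwa [sub_add_cancel] at this
        exact (h5 hd).elim
      refine ⟨r * ↑hr'u.unit⁻¹, ?_⟩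
      have hkey : (IsLocalization.mk' B' c d - ρ (r * ↑hr'u.unit⁻¹)) * β d.1 * ρ r' =
          (β c - ρ r) * ρ r' - ρ r * (β d.1 - ρ r') := by
        have e : ρ (↑hr'u.unit⁻¹) * ρ r' = 1 := by rw [← map_mul, hr'u.val_inv_mul, map_one]
        rw [map_mul, sub_mul, IsLocalization.mk'_spec]
        calc (β c - ρ r * ρ (↑hr'u.unit⁻¹) * β d.1) * ρ r'
            = β c * ρ r' - ρ r * (ρ (↑hr'u.unit⁻¹) * ρ r') * β d.1 := by ring
          _ = _ := by rw [e]; ring
      have hmem : (IsLocalization.mk' B' c d - ρ (r * ↑hr'u.unit⁻¹)) * β d.1 * ρ r' ∈ ((I' ^ n).map φ).map β := by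
        rw [hkey]
        exact sub_mem (Ideal.mul_mem_right _ _ hr) (Ideal.mul_mem_left _ _ hr')
      rwa [Ideal.mul_unit_mem_iff_mem _ (hr'u.map ρ), Ideal.mul_unit_mem_iff_mem _ hd] at hmem
    · exact ⟨0, hle ▸ trivial⟩

end HensSchFFLib
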