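import Mathlib

/-! Separatedness of finite modules base changed to an approximable faithfully flat algebra. -/

set_option autoImplicit false

universe u

open TensorProduct

namespace HensSchFFLib

variable (R H : Type u) [CommRing R] [CommRing H] [Algebra R H] (J : Ideal R)

/-- Every finite set lies in the image of a Noetherian `R`-algebra having the same truncations. -/
def Covered : Prop :=
  ∀ s : Finset H, ∃ (B : Type u) (_ : CommRing B) (_ : Algebra R B) (θ : B →ₐ[R] H),
    IsNoetherianRing B ∧ (↑s : Set H) ⊆ Set.range θ ∧ J.map (algebraMap R B) ≤ (⊥ : Ideal B).jacobson ∧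
      ∀ (n : ℕ) (b : B), ∃ r : R, b - algebraMap R B r ∈ (J ^ n).map (algebraMap R B)

variable {R H J}

theorem Covered.approx (h : Covered R H J) (n : ℕ) (b : H) :
    ∃ r : R, b - algebraMap R H r ∈ (J ^ n).map (algebraMap R H) := by
  obtain ⟨B, _, _, θ, -, hs, -, ha⟩ := h {b}
  obtain ⟨b', rfl⟩ := hs (Finset.mem_coe.2 (Finset.mem_singleton_self b))
  obtain ⟨r, hr⟩ := ha n b'
  refine ⟨r, ?_⟩
  have := Ideal.mem_map_of_mem (θ : B →+* H) hr
  rw [Ideal.map_map, AlgHom.comp_algebraMap] at this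
  simpa using this

theorem tmul_eq_zero_of_mem {N : Type u} [AddCommGroup N] [Module R N] {n : ℕ}
    (hk : ∀ r ∈ J ^ n, ∀ z : N, r • z = 0) {b : H} (hb : b ∈ (J ^ n).map (algebraMap R H)) (z : N) :
    b ⊗ₜ[R] z = 0 := by
  induction hb using Submodule.span_induction with
  | mem x hx =>
    obtain ⟨r, hr, rfl⟩ := hx
    rw [Algebra.algebraMap_eq_smul_one, smul_tmul, hk r hr, tmul_zero]
  | zero => exact zero_tmul _ _
  | add x y _ _ hx hy => rw [add_tmul, hx, hy, add_zero]
  | smul c x _ hx =>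
    have : (c • x) ⊗ₜ[R] z = c • (x ⊗ₜ[R] z) := (smul_tmul' c x z).symm
    rw [this, hx, smul_zero]

/-- A module killed by a power of the ideal is unchanged. -/
theorem bijective_mk [Module.FaithfullyFlat R H] (h : Covered R H J) {N : Type u} [AddCommGroup N] [Module R N]
    (n : ℕ) (hk : ∀ r ∈ J ^ n, ∀ z : N, r • z = 0) :
    Function.Bijective fun z : N => (1 : H) ⊗ₜ[R] z := by
  refine ⟨Module.FaithfullyFlat.tensorProduct_mk_injective N, fun t => ?_⟩
  induction t using TensorProduct.induction_on with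
  | zero => exact ⟨0, tmul_zero _ _⟩
  | tmul b z =>
    obtain ⟨r, hr⟩ := h.approx n b
    refine ⟨r • z, ?_⟩
    have h1 := tmul_eq_zero_of_mem hk hr z
    rw [sub_tmul, sub_eq_zero] at h1
    exact ((smul_tmul r (1 : H) z).symm.trans (by rw [← Algebra.algebraMap_eq_smul_one])).trans h1.symm
  | add a b ha hb =>
    obtain ⟨a, rfl⟩ := ha
    obtain ⟨b, rfl⟩ := hb
    exact ⟨a + b, tmul_add _ _ _⟩

/-- An element of the base change vanishing in all truncations is zero. -/
theorem eq_zero_of_truncations [Module.FaithfullyFlat R H] (h : Covered R H J) {M : Type u} [AddCommGroup M]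
    [Module R M] [Module.Finite R M] (N : ℕ → Type u) [∀ n, AddCommGroup (N n)] [∀ n, Module R (N n)]
    (q : ∀ n, M →ₗ[R] N n) (hker : ∀ n m, q n m = 0 → m ∈ (J ^ n • ⊤ : Submodule R M))
    (hk : ∀ n, ∀ r ∈ J ^ n, ∀ z : N n, r • z = 0) (t : H ⊗[R] M) (ht : ∀ n, (q n).lTensor H t = 0) : t = 0 := by
  classical
  obtain ⟨S, rfl⟩ := TensorProduct.exists_finset t
  obtain ⟨B, _, _, θ, hN, hs, hJ, ha⟩ := h (S.image Prod.fst)
  choose c hc using fun x : S => hs (Finset.mem_coe.2 (Finset.mem_image_of_mem Prod.fst x.2))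
  let t' : B ⊗[R] M := ∑ x : S, c x ⊗ₜ[R] x.1.2
  have e : θ.toLinearMap.rTensor M t' = ∑ x ∈ S, x.1 ⊗ₜ[R] x.2 := by
    rw [map_sum, ← Finset.sum_coe_sort S]
    exact Finset.sum_congr rfl fun x _ => by rw [LinearMap.rTensor_tmul]; exact congrArg (· ⊗ₜ[R] x.1.2) (hc x)
  suffices ht' : t' = 0 by rw [← e, ht', map_zero]
  let K : Ideal B := J.map (algebraMap R B)
  have key : ∀ n, t' ∈ (K ^ n • ⊤ : Submodule B (B ⊗[R] M)) := by
    intro n
    have hKn : ∀ b ∈ K ^ n, ∀ y : B ⊗[R] M, b • y ∈ (K ^ n • ⊤ : Submodule B (B ⊗[R] M)) :=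
      fun b hb y => Submodule.smul_mem_smul hb trivial
    have hdec : ∀ x : B ⊗[R] M, ∃ m : M, x - 1 ⊗ₜ m ∈ (K ^ n • ⊤ : Submodule B (B ⊗[R] M)) := by
      intro x
      induction x using TensorProduct.induction_on with
      | zero => exact ⟨0, by simp⟩
      | tmul b m =>
        obtain ⟨r, hr⟩ := ha n b
        rw [Ideal.map_pow] at hr
        refine ⟨r • m, ?_⟩
        rw [show (1 : B) ⊗ₜ[R] (r • m) = algebraMap R B r ⊗ₜ m by
          rw [tmul_smul, smul_tmul', Algebra.algebraMap_eq_smul_one], ← sub_tmul]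
        have := hKn _ hr ((1 : B) ⊗ₜ[R] m)
        rwa [smul_tmul', smul_eq_mul, mul_one] at this
      | add a b ha hb =>
        obtain ⟨a', ha'⟩ := ha
        obtain ⟨b', hb'⟩ := hb
        refine ⟨a' + b', ?_⟩
        rw [tmul_add, add_sub_add_comm]
        exact add_mem ha' hb'
    obtain ⟨m, hm⟩ := hdec t'
    let Φ : B ⊗[R] M →+ H ⊗[R] N n :=
      (((q n).lTensor H).comp (θ.toLinearMap.rTensor M)).toAddMonoidHom
    have hΦmap : ∀ b ∈ (J ^ n).map (algebraMap R B), ∀ y : B ⊗[R] M, Φ (b • y) = 0 := by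
      intro b hb y
      induction y using TensorProduct.induction_on with
      | zero => rw [smul_zero, map_zero]
      | tmul c m =>
        show (q n).lTensor H (θ.toLinearMap.rTensor M (b • c ⊗ₜ[R] m)) = 0
        rw [smul_tmul', LinearMap.rTensor_tmul, LinearMap.lTensor_tmul]
        refine tmul_eq_zero_of_mem (hk n) ?_ _
        have hb' := Ideal.mem_map_of_mem (θ : B →+* H) hb
        rw [Ideal.map_map, AlgHom.comp_algebraMap] at hb'
        simpa using Ideal.mul_mem_right (θ c) _ hb'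
      | add u v hu hv => rw [smul_add, map_add, hu, hv, add_zero]
    have hΦ : ∀ x ∈ (K ^ n • ⊤ : Submodule B (B ⊗[R] M)), Φ x = 0 := by
      intro x hx
      refine Submodule.smul_induction_on hx (fun b hb y _ => ?_) fun u v hu hv => by rw [map_add, hu, hv, add_zero]
      rw [← Ideal.map_pow] at hb
      exact hΦmap b hb y
    have h1 : (1 : H) ⊗ₜ[R] q n m = (0 : H ⊗[R] N n) := by
      have h2 := hΦ _ hm
      rw [map_sub, sub_eq_zero] at h2
      have h3 : Φ t' = 0 := by
        show (q n).lTensor H (θ.toLinearMap.rTensor M t') = 0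
        rw [e]
        exact ht n
      have h4 : Φ (1 ⊗ₜ[R] m) = (1 : H) ⊗ₜ[R] q n m := by
        show (q n).lTensor H (θ.toLinearMap.rTensor M (1 ⊗ₜ[R] m)) = _
        simp
      rw [← h4, ← h2, h3]
    have h5 : q n m = 0 := Module.FaithfullyFlat.tensorProduct_mk_injective (A := R) (B := H) (N n)
      (h1.trans (tmul_zero _ _).symm)
    have h6 : (1 : B) ⊗ₜ[R] m ∈ (K ^ n • ⊤ : Submodule B (B ⊗[R] M)) := by
      refine Submodule.smul_induction_on (hker n m h5) (fun r hr y _ => ?_) fun u v hu hv => by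
        rw [tmul_add]; exact add_mem hu hv
      have := hKn _ (Ideal.map_pow (algebraMap R B) J n ▸ Ideal.mem_map_of_mem (algebraMap R B) hr) ((1 : B) ⊗ₜ[R] y)
      rwa [algebraMap_smul, ← tmul_smul] at this
    have := add_mem hm h6
    rwa [sub_add_cancel] at this
  have := Submodule.mem_iInf (fun n => (K ^ n • ⊤ : Submodule B (B ⊗[R] M))) |>.2 key
  rwa [Ideal.iInf_pow_smul_eq_bot_of_le_jacobson K hJ, Submodule.mem_bot] at this

end HensSchFFLib
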