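import Groth.Agent.HensSchFFLib.Sph
import Groth.Prelude.Def_Coh

/-! Stalks of the Henselization along the zero locus of an ideal of the base. -/

set_option autoImplicit false
set_option backward.isDefEq.respectTransparency false

universe u

open CategoryTheory TopologicalSpace Opposite AlgebraicGeometry

namespace HensSchFFLib

/-- `Covered` for a ring map. -/
def CovHom {R H : Type u} [CommRing R] [CommRing H] (f : R →+* H) (J : Ideal R) : Prop :=
  ∀ s : Finset H, ∃ (B : Type u) (_ : CommRing B) (ρ : R →+* B) (θ : B →+* H), θ.comp ρ = f ∧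
    IsNoetherianRing B ∧ (↑s : Set H) ⊆ Set.range θ ∧ J.map ρ ≤ (⊥ : Ideal B).jacobson ∧
      ∀ (n : ℕ) (b : B), ∃ r : R, b - ρ r ∈ (J ^ n).map ρ

theorem CovHom.covered {R H : Type u} [CommRing R] [CommRing H] [Algebra R H] {J : Ideal R}
    (h : CovHom (algebraMap R H) J) : Covered R H J := fun s => by
  obtain ⟨B, _, ρ, θ, hθ, hN, hs, hJ, ha⟩ := h s
  letI := ρ.toAlgebra
  exact ⟨B, inferInstance, inferInstance, { θ with commutes' := fun r => RingHom.congr_fun hθ r }, hN, hs, hJ, ha⟩

theorem covHom_of_covered {R H : Type u} [CommRing R] [CommRing H] [Algebra R H] {f : R →+* H} {J : Ideal R}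
    (hf : algebraMap R H = f) (h : Covered R H J) : CovHom f J := fun s => by
  obtain ⟨B, _, _, θ, hN, hs, hJ, ha⟩ := h s
  exact ⟨B, inferInstance, algebraMap R B, θ, (AlgHom.comp_algebraMap θ).trans hf, hN, hs, hJ, ha⟩

theorem CovHom.pre {R R' H : Type u} [CommRing R] [CommRing R'] [CommRing H] {f : R →+* H} {J : Ideal R}
    (h : CovHom f J) (k : R' →+* R) (hk : Function.Bijective k) (J' : Ideal R') (hJ : J'.map k = J) :
    CovHom (f.comp k) J' := fun s => by
  obtain ⟨B, _, ρ, θ, hθ, hN, hs, hJac, ha⟩ := h s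
  have e : ∀ n, (J' ^ n).map (ρ.comp k) = (J ^ n).map ρ := fun n => by
    rw [← Ideal.map_map, Ideal.map_pow k, hJ]
  refine ⟨B, inferInstance, ρ.comp k, θ, by rw [← RingHom.comp_assoc, hθ], hN, hs, ?_, fun n b => ?_⟩
  · rw [← pow_one J', e, pow_one]; exact hJac
  · obtain ⟨r, hr⟩ := ha n b
    obtain ⟨r', rfl⟩ := hk.2 r
    exact ⟨r', by rw [e]; exact hr⟩

theorem CovHom.post {R H H' : Type u} [CommRing R] [CommRing H] [CommRing H'] {f : R →+* H} {J : Ideal R}
    (h : CovHom f J) (k : H →+* H') (hk : Function.Bijective k) : CovHom (k.comp f) J := fun s => by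
  classical
  choose c hc using fun b : H' => hk.2 b
  obtain ⟨B, _, ρ, θ, hθ, hN, hs, hJ, ha⟩ := h (s.image c)
  refine ⟨B, inferInstance, ρ, k.comp θ, by rw [RingHom.comp_assoc, hθ], hN, fun b hb => ?_, hJ, ha⟩
  obtain ⟨b', hb'⟩ := hs (Finset.mem_coe.2 (Finset.mem_image_of_mem c hb))
  exact ⟨b', by rw [RingHom.comp_apply, hb', hc]⟩

variable {A : Type u} [CommRing A] {X : Scheme.{u}} (s : X ⟶ Spec (CommRingCat.of A))

/-- The ring of the base to a stalk. -/
noncomputable def rhoSt (x : X) : A →+* X.presheaf.stalk x :=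
  (X.presheaf.germ ⊤ x trivial).hom.comp (Coh.toGlobal s)

variable {B : Type u} [CommRing B] (j : Spec (CommRingCat.of B) ⟶ X)

/-- The ring map of a chart. -/
noncomputable def chartHom : A →+* B := (Spec.preimage (j ≫ s)).hom

theorem stalkMap_rhoSt (p : Spec (CommRingCat.of B)) (a : A) :
    j.stalkMap p (rhoSt s (j p) a) = StructureSheaf.toStalk B p (chartHom s j a) := by
  have h1 : (Scheme.ΓSpecIso (CommRingCat.of A)).inv ≫ s.appTop ≫ j.appTop =
      Spec.preimage (j ≫ s) ≫ (Scheme.ΓSpecIso (CommRingCat.of B)).inv := by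
    rw [← Scheme.Hom.comp_appTop, Scheme.ΓSpecIso_inv_naturality, Spec.map_preimage]
  refine (Scheme.Hom.germ_stalkMap_apply j ⊤ p trivial _).trans ?_
  refine (congrArg ((Spec (CommRingCat.of B)).presheaf.germ ⊤ p trivial) (ConcreteCategory.congr_hom h1 a)).trans ?_
  exact StructureSheaf.algebraMap_germ_apply (R := B) ⊤ p trivial _

theorem preimage_zeroLocus (I : Ideal A) :
    j.base ⁻¹' (s.base ⁻¹' PrimeSpectrum.zeroLocus (I : Set A)) =
      PrimeSpectrum.zeroLocus (I.map (chartHom s j) : Set B) := by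
  rw [Ideal.map, PrimeSpectrum.zeroLocus_span, ← PrimeSpectrum.preimage_comap_zeroLocus]
  have h : ∀ p, s.base (j.base p) = PrimeSpectrum.comap (chartHom s j) p := fun p => by
    show (j ≫ s) p = _
    rw [← Spec.map_preimage (j ≫ s)]
    rfl
  ext p
  show s.base (j.base p) ∈ PrimeSpectrum.zeroLocus (I : Set A) ↔ _
  rw [h]
  rfl

/-- The stalks of the Henselization along `V(I)` are covered. -/
theorem covHom_stalkMap [IsLocallyNoetherian X] (I : Ideal A) {Xh : LocallyRingedSpace.{u}}
    {ι : Xh ⟶ X.toLocallyRingedSpace}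
    (h : HensSch.IsHenselizationAlong X (s.base ⁻¹' PrimeSpectrum.zeroLocus (I : Set A)) Xh ι) (z : Xh) :
    CovHom (ι.stalkMap z).hom (I.map (rhoSt s (ι.base z))) := by
  obtain ⟨-, -, hrange, hch⟩ := h
  obtain ⟨B, _, j, hj, hxj, V, v, hv, π, hVr, hcomm, hsph⟩ := hch (ι.base z) (hrange ▸ ⟨z, rfl⟩)
  obtain ⟨w, rfl⟩ : z ∈ Set.range v.base := by rw [hVr]; exact hxj
  haveI : IsNoetherianRing B := by
    haveI : IsLocallyNoetherian (Spec (CommRingCat.of B)) := isLocallyNoetherian_of_isOpenImmersion j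
    haveI : IsNoetherianRing Γ(Spec (CommRingCat.of B), ⊤) :=
      IsLocallyNoetherian.component_noetherian ⟨⊤, isAffineOpen_top _⟩
    exact isNoetherianRing_of_ringEquiv _ (Scheme.ΓSpecIso (CommRingCat.of B)).commRingCatIsoToRingEquiv
  set K := PrimeSpectrum.vanishingIdeal (j.base ⁻¹' (s.base ⁻¹' PrimeSpectrum.zeroLocus (I : Set A)))
  have hK : K = (I.map (chartHom s j)).radical := by
    rw [← PrimeSpectrum.vanishingIdeal_zeroLocus_eq_radical, ← preimage_zeroLocus]
  obtain ⟨N, hN⟩ := (I.map (chartHom s j)).exists_radical_pow_le_of_fg (IsNoetherian.noetherian _)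
  rw [← hK] at hN
  letI := (π.stalkMap w).hom.toAlgebra
  have h0 : CovHom (π.stalkMap w).hom ((I.map (chartHom s j)).map (StructureSheaf.toStalk B (π.base w)).hom) :=
    covHom_of_covered rfl (covered_stalk hsph w _ (hK ▸ Ideal.le_radical) hN rfl)
  have hbij : Function.Bijective (j.stalkMap (π.base w)) := ConcreteCategory.bijective_of_isIso _
  have h1 : CovHom ((π ≫ j.toLRSHom).stalkMap w).hom (I.map (rhoSt s (j.base (π.base w)))) := by
    rw [LocallyRingedSpace.stalkMap_comp]
    refine h0.pre (j.stalkMap (π.base w)).hom hbij _ ?_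
    refine (Ideal.map_map _ _).trans (Eq.trans ?_ (Ideal.map_map _ _).symm)
    exact congrArg (fun k => I.map k) (RingHom.ext fun a => stalkMap_rhoSt s j (π.base w) a)
  have key : ∀ {g g' : V ⟶ X.toLocallyRingedSpace} (_ : g = g'),
      CovHom (g.stalkMap w).hom (I.map (rhoSt s (g.base w))) →
        CovHom (g'.stalkMap w).hom (I.map (rhoSt s (g'.base w))) := fun e hh => e ▸ hh
  have h2 : CovHom ((v ≫ ι).stalkMap w).hom (I.map (rhoSt s (ι.base (v.base w)))) := key hcomm.symm h1
  rw [LocallyRingedSpace.stalkMap_comp] at h2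
  have h3 := h2.post (inv (v.stalkMap w)).hom (ConcreteCategory.bijective_of_isIso _)
  rw [← CommRingCat.hom_comp, Category.assoc, IsIso.hom_inv_id, Category.comp_id] at h3
  exact h3

end HensSchFFLib
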