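import Groth.Agent.FlatMorLib.Pull
import Groth.Prelude.Def_HensSch

/-! The stalk of an inverse image on pure tensors, and sections of inverse images by their germs. -/

set_option autoImplicit false
set_option backward.isDefEq.respectTransparency false

universe u

open CategoryTheory CategoryTheory.Limits TopologicalSpace Opposite

namespace HensSchFFLib

open FlatMorLib

variable {X Y : TopCat.{u}} (f : X ⟶ Y) (O_X : TopCat.Sheaf CommRingCat.{u} X)
  (O_Y : TopCat.Sheaf CommRingCat.{u} Y)
  (c : O_Y ⟶ ((TopologicalSpace.Opens.map f).sheafPushforwardContinuous CommRingCat.{u}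
    (Opens.grothendieckTopology Y) (Opens.grothendieckTopology X)).obj O_X)

/-- The inverse image of a section. -/
noncomputable def unitSec (M : ModSite.Mod O_Y) (U : Opens Y) (m : (prs O_Y M).obj (op U)) :
    (prs O_X ((rmor f O_X O_Y c).pull.obj M)).obj (op ((Opens.map f).obj U)) :=
  ((rmor f O_X O_Y c).adj.unit.app M).val.app (op U) m

theorem skyAdj_homEquiv {T : TopCat.{u}} (O : TopCat.Sheaf CommRingCat.{u} T) (t : T) (M : ModSite.Mod O)
    (A : ModuleCat.{u} (O.presheaf.stalk t)) (a : (stalk O t).obj M ⟶ A) :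
    (skyAdj O t).homEquiv M A a = skyLift O t a := by
  rw [skyAdj, Adjunction.adjunctionOfEquivRight]
  erw [Adjunction.mkOfHomEquiv_homEquiv]
  rfl

/-- The stalk of the inverse image, on pure tensors. -/
theorem stalkPullInv_germ (M : ModSite.Mod O_Y) (x : X) {U : Opens Y} (hU : f x ∈ U) (m : (prs O_Y M).obj (op U)) :
    letI := (stalkHom f O_X O_Y c x).hom.toAlgebra
    ((stalkPullIso f O_X O_Y c x).inv.app M).hom
        ((1 : O_X.presheaf.stalk x) ⊗ₜ[O_Y.presheaf.stalk (f x)]
          (show (stalk O_Y (f x)).obj M from (prs O_Y M).germ U (f x) hU m)) =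
      (prs O_X ((rmor f O_X O_Y c).pull.obj M)).germ ((Opens.map f).obj U) x hU (unitSec f O_X O_Y c M U m) := by
  let a₁ := (rmor f O_X O_Y c).adj.comp (skyAdj O_X x)
  let a₂ := (skyAdj O_Y (f x)).comp (ModuleCat.extendRestrictScalarsAdj (stalkHom f O_X O_Y c x).hom)
  let P := (stalk O_X x).obj ((rmor f O_X O_Y c).pull.obj M)
  have e : a₁.unit.app M ≫ (pushSkyIso f O_X O_Y c x).hom.app P =
      a₂.homEquiv M P ((stalkPullIso f O_X O_Y c x).inv.app M) :=
    (unit_conjugateEquiv_symm a₁ a₂ (pushSkyIso f O_X O_Y c x).hom M).trans (a₂.homEquiv_unit _ _ _).symm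
  rw [show a₂.homEquiv M P ((stalkPullIso f O_X O_Y c x).inv.app M) = skyLift O_Y (f x)
    ((ModuleCat.extendRestrictScalarsAdj (stalkHom f O_X O_Y c x).hom).homEquiv _ _
      ((stalkPullIso f O_X O_Y c x).inv.app M)) by
    rw [Adjunction.comp_homEquiv]
    exact skyAdj_homEquiv O_Y (f x) M _ _] at e
  have e' := congrArg (fun φ : M ⟶ skyObj O_Y (f x)
      ((ModuleCat.restrictScalars (stalkHom f O_X O_Y c x).hom).obj P) =>
    skyVal O_Y (f x) (U := U) hU (φ.val.app (op U) m)) e
  refine ((ModuleCat.extendRestrictScalarsAdj_homEquiv_apply ((stalkPullIso f O_X O_Y c x).inv.app M) _).symm.trans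
    (e'.symm.trans ?_))
  have hs : (skyAdj O_X x).unit.app ((rmor f O_X O_Y c).pull.obj M) = skyLift O_X x (𝟙 P) := by
    rw [← Adjunction.homEquiv_id]
    exact skyAdj_homEquiv O_X x _ P (𝟙 P)
  show skyVal O_X x (U := (Opens.map f).obj U) hU
    (((skyAdj O_X x).unit.app ((rmor f O_X O_Y c).pull.obj M)).val.app (op ((Opens.map f).obj U))
      (unitSec f O_X O_Y c M U m)) = _
  rw [hs]
  rfl

end HensSchFFLib
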