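import Groth.Agent.HensSchFFLib.ModPow
import Groth.Agent.HensSchFFLib.StalkPull
import Groth.Agent.HensSchLib.Flat
import Groth.Agent.ProperClopenLib.Basic

/-! Sections of coherent modules on a proper scheme and on its Henselization. -/

set_option autoImplicit false
set_option maxHeartbeats 1000000
set_option backward.isDefEq.respectTransparency false
set_option backward.isDefEq.respectTransparency.types false

universe u

open CategoryTheory CategoryTheory.Limits AlgebraicGeometry TopologicalSpace Opposite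
open scoped TensorProduct

noncomputable section

namespace HensSchFFLib

variable {X : Scheme.{u}} {Xh : LocallyRingedSpace.{u}} (ι : Xh ⟶ X.toLocallyRingedSpace)

/-- The inverse image module. -/
abbrev hp (M : X.Modules) : ModSite.Mod Xh.sheaf := (HensSch.pullMod ι).obj M

/-- A stalk of the inverse image. -/
abbrev hst (M : X.Modules) (y : Xh) : Type u := (FlatMorLib.stalk Xh.sheaf y).obj (hp ι M)

/-- The inverse image of a section. -/
def up (M : X.Modules) (U : X.Opens) (m : Γ(M, U)) :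
    (FlatMorLib.prs Xh.sheaf (hp ι M)).obj (op ((Opens.map ι.base).obj U)) :=
  ((HensSch.pullPushAdj ι).unit.app M).val.app (op U) m

theorem up_natural {M N : X.Modules} (φ : M ⟶ N) (U : X.Opens) (m : Γ(M, U)) :
    ((HensSch.pullMod ι).map φ).val.app (op ((Opens.map ι.base).obj U)) (up ι M U m) = up ι N U (φ.app U m) :=
  (congrArg (fun f => f.val.app (op U) m) ((HensSch.pullPushAdj ι).unit.naturality φ)).symm

/-- The map of stalk rings as an algebra. -/
abbrev stAlg (y : Xh) : Algebra (X.presheaf.stalk (ι.base y)) (Xh.presheaf.stalk y) := (ι.stalkMap y).hom.toAlgebra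

/-- The stalk of the inverse image as a base change. -/
def tens (M : X.Modules) (y : Xh) :
    letI := stAlg ι y
    Xh.presheaf.stalk y ⊗[X.presheaf.stalk (ι.base y)] st M (ι.base y) →+ hst ι M y :=
  ((FlatMorLib.stalkPullIso ι.base Xh.sheaf X.sheaf ⟨ι.c⟩ y).inv.app M).hom.toAddMonoidHom

theorem tens_bijective (M : X.Modules) (y : Xh) : Function.Bijective (tens ι M y) :=
  ConcreteCategory.bijective_of_isIso ((FlatMorLib.stalkPullIso ι.base Xh.sheaf X.sheaf ⟨ι.c⟩ y).inv.app M)

theorem tens_germ (M : X.Modules) (y : Xh) {U : X.Opens} (hy : ι.base y ∈ U) (m : Γ(M, U)) :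
    letI := stAlg ι y
    tens ι M y ((1 : Xh.presheaf.stalk y) ⊗ₜ[X.presheaf.stalk (ι.base y)] gr M (ι.base y) hy m) =
      (FlatMorLib.prs Xh.sheaf (hp ι M)).germ ((Opens.map ι.base).obj U) y hy (up ι M U m) :=
  stalkPullInv_germ ι.base Xh.sheaf X.sheaf ⟨ι.c⟩ M y hy m

theorem tens_natural {M N : X.Modules} (φ : M ⟶ N) (y : Xh) :
    letI := stAlg ι y
    ∀ t, tens ι N y ((stm φ (ι.base y)).hom.lTensor (Xh.presheaf.stalk y) t) =
      ((FlatMorLib.stalk Xh.sheaf y).map ((HensSch.pullMod ι).map φ)).hom (tens ι M y t) := by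
  let := stAlg ι y
  intro t
  have h := (FlatMorLib.stalkPullIso ι.base Xh.sheaf X.sheaf ⟨ι.c⟩ y).inv.naturality φ
  refine Eq.trans ?_ (congrArg (fun f => f.hom t) h)
  rfl

variable {A : Type u} [CommRing A] (I : Ideal A) [IsNoetherianRing A] [X.Over (Spec (CommRingCat.of A))]
  (hh : HensSch.IsHenselizationAlong X ((X ↘ Spec (CommRingCat.of A)).base ⁻¹' PrimeSpectrum.zeroLocus (I : Set A)) Xh ι)
  (F : X.Modules)

include hh

theorem faithfullyFlat_stalk (y : Xh) :
    letI := stAlg ι y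
    Module.FaithfullyFlat (X.presheaf.stalk (ι.base y)) (Xh.presheaf.stalk y) := by
  let := stAlg ι y
  haveI : Module.Flat (X.presheaf.stalk (ι.base y)) (Xh.presheaf.stalk y) :=
    HensSchLib.flat_stalkMap_of_isHenselizationAlong hh y
  haveI : IsLocalHom (algebraMap (X.presheaf.stalk (ι.base y)) (Xh.presheaf.stalk y)) :=
    LocallyRingedSpace.isLocalHomStalkMap ι y
  haveI : IsLocalRing (Xh.presheaf.stalk y) := Xh.isLocalRing y
  exact Module.FaithfullyFlat.of_flat_of_isLocalHom

variable [AlgebraicGeometry.IsNoetherian X]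

theorem covered (y : Xh) :
    letI := stAlg ι y
    Covered (X.presheaf.stalk (ι.base y)) (Xh.presheaf.stalk y)
      (I.map (rhoSt (X ↘ Spec (CommRingCat.of A)) (ι.base y))) := by
  let := stAlg ι y
  exact CovHom.covered (covHom_stalkMap _ I hh y)

variable [Coh.IsQCoh F]

/-- The stalks of the truncations are unchanged. -/
theorem trunc_stalk_bijective (n : ℕ) (y : Xh) :
    letI := stAlg ι y
    Function.Bijective fun z : st (Formal.modPow I n F) (ι.base y) =>
      tens ι (Formal.modPow I n F) y ((1 : Xh.presheaf.stalk y) ⊗ₜ[X.presheaf.stalk (ι.base y)] z) := by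
  let := stAlg ι y
  haveI := faithfullyFlat_stalk ι I hh y
  exact (tens_bijective ι _ y).comp (bijective_mk (covered ι I hh y) n (killed_stalk I F n (ι.base y)))

/-- Sections of the truncations are unchanged. -/
theorem trunc_bijective' (n : ℕ) (U₀ : X.Opens) : Function.Bijective (up ι (Formal.modPow I n F) U₀) := by
  set G := Formal.modPow I n F with hG
  let P := hp ι G
  obtain ⟨hcl, -, hrange, -⟩ := id hh
  set Y := (X ↘ Spec (CommRingCat.of A)).base ⁻¹' PrimeSpectrum.zeroLocus (I : Set A) with hY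
  have uniq : ∀ {U : X.Opens} (s t : Γ(G, U)), (∀ (y : Xh) (hy : ι.base y ∈ U),
      (FlatMorLib.prs Xh.sheaf P).germ ((Opens.map ι.base).obj U) y hy (up ι G U s) =
        (FlatMorLib.prs Xh.sheaf P).germ ((Opens.map ι.base).obj U) y hy (up ι G U t)) → s = t := by
    intro U s t h
    refine TopCat.Presheaf.section_ext ((QCohLib.toAbF X).obj G : TopCat.Sheaf AddCommGrpCat.{u} X.toTopCat) U s t
      fun x hx => ?_
    by_cases hxY : x ∈ Y
    · obtain ⟨y, rfl⟩ : x ∈ Set.range ι.base := hrange ▸ hxY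
      refine (trunc_stalk_bijective ι I hh F n y).1 (a₁ := gr G (ι.base y) hx s) (a₂ := gr G (ι.base y) hx t) ?_
      show tens ι G y _ = tens ι G y _
      rw [tens_germ, tens_germ]
      exact h y hx
    · exact (eq_zero_of_notMem I F n x hxY (gr G x hx s)).trans (eq_zero_of_notMem I F n x hxY (gr G x hx t)).symm
  refine ⟨fun s t hst => uniq s t fun y hy => by rw [hst], fun h => ?_⟩
  have near : ∀ x : U₀, ∃ (U : X.Opens) (_ : U ≤ U₀) (_ : x.1 ∈ U) (s : Γ(G, U)),
      ∀ (y : Xh) (hy : ι.base y ∈ U) (hy0 : ι.base y ∈ U₀),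
      (FlatMorLib.prs Xh.sheaf P).germ ((Opens.map ι.base).obj U) y hy (up ι G U s) =
        (FlatMorLib.prs Xh.sheaf P).germ ((Opens.map ι.base).obj U₀) y hy0 h := by
    rintro ⟨x, hx0⟩
    by_cases hxY : x ∈ Y
    · obtain ⟨y, rfl⟩ : x ∈ Set.range ι.base := hrange ▸ hxY
      obtain ⟨z, hz⟩ := (trunc_stalk_bijective ι I hh F n y).2
        ((FlatMorLib.prs Xh.sheaf P).germ ((Opens.map ι.base).obj U₀) y hx0 h)
      obtain ⟨U, hyU, -, hUU₀, s, rfl⟩ := exists_gr G (ι.base y) z U₀ hx0
      change tens ι G y _ = _ at hz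
      rw [tens_germ] at hz
      obtain ⟨W, hyW, i₁, i₂, hW⟩ := (FlatMorLib.prs Xh.sheaf P).germ_eq (U := (Opens.map ι.base).obj U) (V := (Opens.map ι.base).obj U₀) y hyU hx0 _ _ hz
      obtain ⟨O, hO, hOW⟩ := hh.2.1.isInducing.isOpen_iff.1 W.isOpen
      have hyO : ι.base y ∈ O := by
        have : y ∈ ι.base ⁻¹' O := by rw [hOW]; exact hyW
        exact this
      let U' : X.Opens := U ⊓ ⟨O, hO⟩
      refine ⟨U', inf_le_left.trans hUU₀, ⟨hyU, hyO⟩, G.presheaf.map (homOfLE inf_le_left).op s, fun y' hy' hy0 => ?_⟩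
      have hy'W : y' ∈ W := by
        have : y' ∈ ι.base ⁻¹' O := hy'.2
        rwa [hOW] at this
      let := stAlg ι y'
      rw [← tens_germ, gr_res G inf_le_left (ι.base y') hy' s, tens_germ]
      rw [← TopCat.Presheaf.germ_res_apply (FlatMorLib.prs Xh.sheaf P) i₁ y' hy'W, hW]
      exact TopCat.Presheaf.germ_res_apply (FlatMorLib.prs Xh.sheaf P) i₂ y' hy'W h
    · exact ⟨⟨Yᶜ, hcl.isOpen_compl⟩ ⊓ U₀, inf_le_right, ⟨hxY, hx0⟩, 0, fun y hy => absurd (hrange ▸ Set.mem_range_self y) hy.1⟩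
  choose U hUle hxU s hs using near
  obtain ⟨t, ht, -⟩ := TopCat.Sheaf.existsUnique_gluing'
    ((QCohLib.toAbF X).obj G : TopCat.Sheaf AddCommGrpCat.{u} X.toTopCat) U U₀ (fun x => homOfLE (hUle x))
    (fun x hx => Opens.mem_iSup.2 ⟨⟨x, hx⟩, hxU ⟨x, hx⟩⟩) s fun x x' => by
      refine uniq _ _ fun y hy => ?_
      let := stAlg ι y
      rw [← tens_germ, ← tens_germ]
      refine (congrArg (fun z => tens ι G y ((1 : Xh.presheaf.stalk y) ⊗ₜ z))
        (gr_res G inf_le_left (ι.base y) hy (s x))).trans (Eq.trans ?_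
        (congrArg (fun z => tens ι G y ((1 : Xh.presheaf.stalk y) ⊗ₜ z))
          (gr_res G inf_le_right (ι.base y) hy (s x'))).symm)
      dsimp only
      rw [tens_germ, tens_germ, hs x y _ (hUle x hy.1), hs x' y _ (hUle x' hy.2)]
  refine ⟨t, TopCat.Presheaf.section_ext (⟨FlatMorLib.prs Xh.sheaf P, P.isSheaf⟩ :
    TopCat.Sheaf AddCommGrpCat.{u} Xh.toTopCat) _ _ _ fun y hy => ?_⟩
  refine Eq.trans ?_ (hs ⟨ι.base y, hy⟩ y (hxU _) hy)
  let := stAlg ι y
  refine (tens_germ ι G y (U := U₀) hy t).symm.trans (Eq.trans ?_ (tens_germ ι G y (hxU ⟨ι.base y, hy⟩) _))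
  refine congrArg (fun z => tens ι G y ((1 : Xh.presheaf.stalk y) ⊗ₜ z)) ?_
  rw [← ht ⟨ι.base y, hy⟩]
  exact (gr_res G (hUle _) (ι.base y) (hxU ⟨ι.base y, hy⟩) t).symm

/-- Global sections of the truncations are unchanged. -/
theorem trunc_bijective (n : ℕ) : Function.Bijective (up ι (Formal.modPow I n F) ⊤) :=
  trunc_bijective' ι I hh F n ⊤

/-- Sections vanishing in all truncations vanish. -/
theorem eq_zero_of_trunc (hF : Coh.IsCoh F) {U₀ : X.Opens}
    (h : (FlatMorLib.prs Xh.sheaf (hp ι F)).obj (op ((Opens.map ι.base).obj U₀)))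
    (h0 : ∀ n, ((HensSch.pullMod ι).map (Formal.modPowπ I (n + 1) F)).val.app (op ((Opens.map ι.base).obj U₀)) h = 0) :
    h = 0 := by
  refine TopCat.Presheaf.section_ext (⟨FlatMorLib.prs Xh.sheaf (hp ι F), (hp ι F).isSheaf⟩ :
    TopCat.Sheaf AddCommGrpCat.{u} Xh.toTopCat) _ _ _ fun y hy => ?_
  refine Eq.trans ?_ (map_zero ((FlatMorLib.prs Xh.sheaf (hp ι F)).germ _ y hy).hom).symm
  let := stAlg ι y
  haveI := faithfullyFlat_stalk ι I hh y
  haveI := finite_st F hF (ι.base y)
  obtain ⟨t, ht⟩ := (tens_bijective ι F y).2 ((FlatMorLib.prs Xh.sheaf (hp ι F)).germ _ y hy h)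
  refine ht.symm.trans ((congrArg (tens ι F y) ?_).trans (map_zero _))
  refine eq_zero_of_truncations (covered ι I hh y) (fun n => st (Formal.modPow I n F) (ι.base y))
    (fun n => (stm (Formal.modPowπ I n F) (ι.base y)).hom) (fun n m hm => stm_π_eq_zero I F n (ι.base y) m hm)
    (fun n => killed_stalk I F n (ι.base y)) t fun n => ?_
  rcases n with _ | n
  · haveI : Subsingleton (st (Formal.modPow I 0 F) (ι.base y)) := ⟨fun a b => by
      have e : ∀ z : st (Formal.modPow I 0 F) (ι.base y), z = 0 := fun z =>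
        (one_smul (X.presheaf.stalk (ι.base y)) z).symm.trans (killed_stalk I F 0 (ι.base y) 1 (by simp) z)
      rw [e a, e b]⟩
    exact Subsingleton.elim _ _
  · refine (tens_bijective ι _ y).1 ?_
    rw [map_zero, tens_natural ι (Formal.modPowπ I (n + 1) F) y t, ht]
    refine (FlatMorLib.stalk_germ Xh.sheaf y _ hy h).trans ?_
    rw [h0 n]
    exact map_zero ((FlatMorLib.prs Xh.sheaf _).germ _ y hy).hom

end HensSchFFLib

namespace HensSchFFLib

variable {X : Scheme.{u}} {Xh : LocallyRingedSpace.{u}} (ι : Xh ⟶ X.toLocallyRingedSpace)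
  {A : Type u} [CommRing A] (I : Ideal A) [IsNoetherianRing A] [X.Over (Spec (CommRingCat.of A))]
  (hh : HensSch.IsHenselizationAlong X ((X ↘ Spec (CommRingCat.of A)).base ⁻¹' PrimeSpectrum.zeroLocus (I : Set A)) Xh ι)
  [IsAdicComplete I A] [IsProper (X ↘ Spec (CommRingCat.of A))] [AlgebraicGeometry.IsNoetherian X]
  (F : X.Modules) [Coh.IsQCoh F]

include hh

/-- Global sections of a coherent module on a proper scheme and on its Henselization agree. -/
theorem unit_bijective (hF : Coh.IsCoh F) :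
    Function.Bijective (((HensSch.pullPushAdj ι).unit.app F).val.app (op ⊤)) := by
  let π := fun n => (HensSch.pullMod ι).map (Formal.modPowπ I (n + 1) F)
  have hbij := FormalLib.toHHlim_bijective (A := A) (X := X) I (M := F) hF 0
  have key : ∀ (m : Γ(F, ⊤)) n, (π n).val.app (op ((Opens.map ι.base).obj ⊤)) (up ι F ⊤ m) =
      up ι _ ⊤ ((Formal.modPowπ I (n + 1) F).app ⊤ m) := fun m n => up_natural ι _ ⊤ m
  change Function.Bijective (up ι F ⊤)
  constructor
  · intro a b hab
    refine (ProperClopenLib.hh0 F).symm.injective (hbij.1 (Subtype.ext (funext fun n => ?_)))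
    show Sheaf.H.map _ 0 _ = Sheaf.H.map _ 0 _
    rw [ProperClopenLib.hh0_symm_map, ProperClopenLib.hh0_symm_map]
    refine congrArg _ ((trunc_bijective ι I hh F (n + 1)).1 ?_)
    rw [← key, ← key, hab]
  · intro h
    choose t ht using fun n => (trunc_bijective ι I hh F (n + 1)).2 ((π n).val.app (op ((Opens.map ι.base).obj ⊤)) h)
    have htr : ∀ n, (Formal.modPowTrans I (n + 1) F).app ⊤ (t (n + 1)) = t n := by
      intro n
      refine (trunc_bijective ι I hh F (n + 1)).1 ?_
      refine (up_natural ι (Formal.modPowTrans I (n + 1) F) ⊤ _).symm.trans ?_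
      rw [ht, ht]
      have e : π (n + 1) ≫ (HensSch.pullMod ι).map (Formal.modPowTrans I (n + 1) F) = π n := by
        exact ((HensSch.pullMod ι).map_comp _ _).symm.trans
          (congrArg _ (Formal.modPowπ_trans I (n + 1) F))
      exact congrArg (fun f => f.val.app (op ((Opens.map ι.base).obj ⊤)) h) e
    obtain ⟨ξ, hξ⟩ := hbij.2 ⟨fun n => (ProperClopenLib.hh0 _).symm (t n), fun n => by
      show Sheaf.H.map _ 0 _ = _
      rw [ProperClopenLib.hh0_symm_map, htr]⟩
    refine ⟨ProperClopenLib.hh0 F ξ, sub_eq_zero.1 (eq_zero_of_trunc ι I hh F hF _ fun n => ?_)⟩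
    rw [map_sub, sub_eq_zero]
    refine (key _ n).trans ?_
    rw [← ht n]
    refine congrArg _ ?_
    refine (ProperClopenLib.hh0 _).symm.injective ?_
    rw [← ProperClopenLib.hh0_symm_map, AddEquiv.symm_apply_apply]
    exact congrArg (fun z => (z : Formal.HHlim I F 0).1 n) hξ

end HensSchFFLib
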