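import Groth.Agent.HensSchFFLib.Chart
import Groth.Agent.FlatMorLib.Stalk
import Groth.Agent.FormalCohLib.Sec
import Groth.Agent.DevissLib.Induction

/-! Stalks of the truncations of a coherent module. -/

set_option autoImplicit false
set_option backward.isDefEq.respectTransparency false

universe u

open CategoryTheory CategoryTheory.Limits AlgebraicGeometry TopologicalSpace Opposite

noncomputable section

namespace HensSchFFLib

variable {A : Type u} [CommRing A] (I : Ideal A) {X : Scheme.{u}} [X.Over (Spec (CommRingCat.of A))]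

/-- The stalk of a module on a scheme. -/
abbrev st (M : X.Modules) (x : X) : ModuleCat.{u} (X.presheaf.stalk x) := (FlatMorLib.stalk X.sheaf x).obj M

/-- A morphism on stalks. -/
abbrev stm {M N : X.Modules} (φ : M ⟶ N) (x : X) : st M x ⟶ st N x := (FlatMorLib.stalk X.sheaf x).map φ

/-- The germ of a section. -/
def gr (M : X.Modules) (x : X) {U : X.Opens} (hx : x ∈ U) (s : Γ(M, U)) : st M x := M.presheaf.germ U x hx s

theorem gr_smul (M : X.Modules) (x : X) {U : X.Opens} (hx : x ∈ U) (r : Γ(X, U)) (s : Γ(M, U)) :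
    gr M x hx (r • s) = X.presheaf.germ U x hx r • gr M x hx s :=
  PresheafOfModules.germ_smul (R := X.presheaf) (FlatMorLib.valC X.sheaf M) x U hx r s

theorem gr_add (M : X.Modules) (x : X) {U : X.Opens} (hx : x ∈ U) (s t : Γ(M, U)) :
    gr M x hx (s + t) = gr M x hx s + gr M x hx t := map_add (M.presheaf.germ U x hx).hom s t

theorem gr_res (M : X.Modules) {U V : X.Opens} (h : V ≤ U) (x : X) (hx : x ∈ V) (s : Γ(M, U)) :
    gr M x hx (M.presheaf.map (homOfLE h).op s) = gr M x (h hx) s :=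
  TopCat.Presheaf.germ_res_apply M.presheaf (homOfLE h) x hx s

theorem stm_gr {M N : X.Modules} (φ : M ⟶ N) (x : X) {U : X.Opens} (hx : x ∈ U) (s : Γ(M, U)) :
    (stm φ x).hom (gr M x hx s) = gr N x hx (φ.app U s) := FlatMorLib.stalk_germ X.sheaf x φ hx s

theorem exists_gr (M : X.Modules) (x : X) (a : st M x) (W : X.Opens) (hW : x ∈ W) :
    ∃ (U : X.Opens) (hx : x ∈ U), IsAffineOpen U ∧ U ≤ W ∧ ∃ s : Γ(M, U), gr M x hx s = a := by
  obtain ⟨V, hV, s, hs⟩ := M.presheaf.exists_germ_eq (x := x) a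
  obtain ⟨U, hU, hx, hUV⟩ := exists_isAffineOpen_mem_and_subset (x := x) (U := V ⊓ W) ⟨hV, hW⟩
  exact ⟨U, hx, hU, fun y hy => (hUV hy).2, M.presheaf.map (homOfLE (fun y hy => (hUV hy).1)).op s,
    (gr_res M _ x hx s).trans hs⟩

theorem germ_rhoA (x : X) {U : X.Opens} (hx : x ∈ U) (a : A) :
    X.presheaf.germ U x hx (FormalLib.rhoA A U a) = rhoSt (X ↘ Spec (CommRingCat.of A)) x a :=
  TopCat.Presheaf.germ_res_apply X.presheaf _ x hx _

theorem map_idU (x : X) {U : X.Opens} (hx : x ∈ U) (n : ℕ) :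
    (FormalCohLib.idU I U ^ n).map (X.presheaf.germ U x hx).hom =
      (I.map (rhoSt (X ↘ Spec (CommRingCat.of A)) x)) ^ n := by
  rw [Ideal.map_pow]
  congr 1
  refine (Ideal.map_map _ _).trans ?_
  congr 1
  exact RingHom.ext (germ_rhoA x hx)

variable [AlgebraicGeometry.IsNoetherian X] (M : X.Modules) [Coh.IsQCoh M]

theorem stm_π_surjective (n : ℕ) (x : X) : Function.Surjective (stm (Formal.modPowπ I n M) x).hom := by
  intro a
  obtain ⟨U, hx, hU, -, s, rfl⟩ := exists_gr _ x a ⊤ trivial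
  obtain ⟨t, rfl⟩ := FormalCohLib.app_modPowπ_surjective I M n hU s
  exact ⟨gr M x hx t, stm_gr _ x hx t⟩

theorem stm_π_eq_zero (n : ℕ) (x : X) (a : st M x) (ha : (stm (Formal.modPowπ I n M) x).hom a = 0) :
    a ∈ ((I.map (rhoSt (X ↘ Spec (CommRingCat.of A)) x)) ^ n • ⊤ : Submodule (X.presheaf.stalk x) (st M x)) := by
  obtain ⟨U, hx, hU, -, s, rfl⟩ := exists_gr M x a ⊤ trivial
  rw [stm_gr] at ha
  have h0 : gr (Formal.modPow I n M) x hx ((Formal.modPowπ I n M).app U s) =
      gr (Formal.modPow I n M) x hx 0 := ha.trans (map_zero ((Formal.modPow I n M).presheaf.germ U x hx).hom).symm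
  obtain ⟨W, hxW, i₁, i₂, hW⟩ := (Formal.modPow I n M).presheaf.germ_eq x hx hx _ _ h0
  obtain ⟨U', hU', hxU', hle⟩ := exists_isAffineOpen_mem_and_subset (x := x) (U := W) hxW
  have h1 : (Formal.modPowπ I n M).app U' (M.presheaf.map (homOfLE (hle.trans i₁.le)).op s) = 0 := by
    refine (QCohLib.app_map (Formal.modPowπ I n M) (homOfLE (hle.trans i₁.le)) s).trans ?_
    refine ((QCohLib.map_map' (Formal.modPow I n M) (homOfLE hle) i₁ _).symm.trans (congrArg _ hW)).trans ?_
    rw [map_zero, map_zero]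
  rw [FormalCohLib.app_modPowπ_eq_zero I M n hU'] at h1
  rw [← gr_res M (hle.trans i₁.le) x hxU' s, ← map_idU I x hxU' n]
  refine Submodule.smul_induction_on h1 (fun r hr m _ => ?_) fun u v hu hv => by
    rw [gr_add]; exact add_mem hu hv
  rw [gr_smul]
  exact Submodule.smul_mem_smul (Ideal.mem_map_of_mem _ hr) trivial

theorem killed_stalk (n : ℕ) (x : X) (r : X.presheaf.stalk x)
    (hr : r ∈ (I.map (rhoSt (X ↘ Spec (CommRingCat.of A)) x)) ^ n) (z : st (Formal.modPow I n M) x) :
    r • z = 0 := by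
  obtain ⟨m, rfl⟩ := stm_π_surjective I M n x z
  rw [← map_smul]
  obtain ⟨U, hx, hU, -, s, rfl⟩ := exists_gr M x m ⊤ trivial
  rw [← map_idU I x hx n] at hr
  induction hr using Submodule.span_induction with
  | mem r hr =>
    obtain ⟨r, hr', rfl⟩ := hr
    rw [← gr_smul, stm_gr, (FormalCohLib.app_modPowπ_eq_zero I M n hU _).2 (Submodule.smul_mem_smul hr' trivial)]
    exact map_zero ((Formal.modPow I n M).presheaf.germ U x hx).hom
  | zero => rw [zero_smul, map_zero]
  | add u v _ _ hu hv => rw [add_smul, map_add, hu, hv, add_zero]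
  | smul c u _ hu => rw [smul_assoc, map_smul, hu, smul_zero]

omit [Coh.IsQCoh M] in
theorem finite_st (hM : Coh.IsCoh M) (x : X) :
    Module.Finite (X.presheaf.stalk x) (st M x) := by
  haveI := DevissLib.isNoetherian_stalk hM x
  exact (inferInstance : Module.Finite (X.presheaf.stalk x) ((DerSch.stalkFunctor X x).obj M))

theorem eq_zero_of_notMem (n : ℕ) (x : X)
    (hx : x ∉ (X ↘ Spec (CommRingCat.of A)).base ⁻¹' PrimeSpectrum.zeroLocus (I : Set A))
    (z : st (Formal.modPow I n M) x) : z = 0 := by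
  let s := X ↘ Spec (CommRingCat.of A)
  obtain ⟨a, ha, hau⟩ : ∃ a ∈ I, a ∉ (s.base x).asIdeal := Set.not_subset.1 hx
  have hu : IsUnit (rhoSt s x a) := by
    have h1 : IsUnit ((Spec (CommRingCat.of A)).presheaf.germ ⊤ (s.base x) trivial
        ((Scheme.ΓSpecIso (CommRingCat.of A)).inv.hom a)) := by
      rw [show (Spec (CommRingCat.of A)).presheaf.germ ⊤ (s.base x) trivial
          ((Scheme.ΓSpecIso (CommRingCat.of A)).inv.hom a) = StructureSheaf.toStalk A (s.base x) a from
        StructureSheaf.algebraMap_germ_apply (R := A) ⊤ (s.base x) trivial a]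
      exact (IsLocalization.AtPrime.isUnit_to_map_iff ((Spec.structureSheaf A).presheaf.stalk (s.base x)) (s.base x).asIdeal a).2 hau
    have h2 := h1.map (s.stalkMap x).hom
    rwa [Scheme.Hom.germ_stalkMap_apply] at h2
  have := killed_stalk I M n x _ (Ideal.pow_mem_pow (Ideal.mem_map_of_mem _ ha) n) z
  exact (hu.pow n).smul_eq_zero.mp this

end HensSchFFLib
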